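import Mathlib
import Cfsg.Prelude.Def_Characters
import Cfsg.Prelude.Def_Blocks
import Cfsg.Agent.Lib.Chars.Integral
import Cfsg.Agent.Lib.Chars.PowerPerm
import Cfsg.Agent.Lib.SmallGroups.Basic

/-!
Character values at elements of order 5 conjugate to their squares and of order 11 conjugate to their cubes;
linear characters of simple groups.
-/

set_option autoImplicit false

namespace Cfsg.Agent.Lib.M11Degrees

open scoped ComplexConjugate
open Cfsg.Agent.Lib.Chars

universe u

variable {G : Type u} [Group G] [Finite G]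

theorem sum_pow_root {r : ℕ} {z : ℂ} (hz : z ^ r = 1) :
    ∑ m ∈ Finset.range r, z ^ m = if z = 1 then (r : ℂ) else 0 := by
  split_ifs with h
  · simp [h]
  · rw [geom_sum_eq h, hz, sub_self, zero_div]

/-- Eigenvalues for all powers at once. -/
theorem exists_pow_sum {n : ℕ} (ρ : Representation ℂ G (Fin n → ℂ)) (g : G) :
    ∃ (ι : Type) (_ : Fintype ι) (μ : ι → ℂ), Fintype.card ι = n ∧
      (∀ i, μ i ^ orderOf g = 1) ∧ ∀ m : ℕ, ρ.character (g ^ m) = ∑ i, μ i ^ m := by
  obtain ⟨ι, _, b, μ, hm, hb⟩ := exists_eigenbasis ρ g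
  refine ⟨ι, inferInstance, μ, ?_, hm, fun m => trace_eq_sum_of_eigenbasis _ b _ fun i => ?_⟩
  · rw [← Module.finrank_eq_card_basis b, Module.finrank_fin_fun]
  · induction m with
    | zero => simp
    | succ m ih =>
      rw [pow_succ, map_mul, Module.End.mul_apply, hb, map_smul, ih, smul_smul, pow_succ']

/-- Value at an element of order five conjugate to its square. -/
theorem exists_int_value_five (χ : IrrCharacter G) {x : G} (hx : orderOf x = 5)
    (hc : IsConj x (x ^ 2)) {d : ℕ} (hd : (χ : G → ℂ) 1 = d) :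
    ∃ v : ℤ, (χ : G → ℂ) x = v ∧ (5 : ℤ) ∣ v - d := by
  classical
  obtain ⟨n, ρ, hρ, hχ⟩ := χ.2
  obtain ⟨ι, _, μ, hn, hm, hsum⟩ := exists_pow_sum ρ x
  rw [hx] at hm
  have hx4 : IsConj x (x ^ 4) := by
    have := hc.trans (isConj_pow_of_isConj hc 2)
    rwa [← pow_mul] at this
  have hx3 : IsConj x (x ^ 3) := by
    have h8 : IsConj x ((x ^ 2) ^ 4) := hx4.trans (isConj_pow_of_isConj hc 4)
    have hrw : (x ^ 2) ^ 4 = x ^ 3 := by
      have : x ^ 5 = 1 := hx ▸ pow_orderOf_eq_one x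
      rw [← pow_mul, show 2 * 4 = 5 + 3 from rfl, pow_add, this, one_mul]
    rwa [hrw] at h8
  have hval : ∀ m : ℕ, IsConj x (x ^ m) → ∑ i, μ i ^ m = (χ : G → ℂ) x := fun m h => by
    rw [← hsum, hχ]
    exact (isClassFunction_apply_eq (irr_isClassFunction χ) h).symm ▸ rfl
  set k := (Finset.univ.filter fun i => μ i = 1).card with hk
  have hS : ∑ m ∈ Finset.range 5, ∑ i, μ i ^ m = ((5 * k : ℕ) : ℂ) := by
    rw [Finset.sum_comm, Finset.sum_congr rfl fun i _ => sum_pow_root (hm i), ← Finset.sum_filter,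
      Finset.sum_const, nsmul_eq_mul, hk]
    push_cast; ring
  have hdn : (d : ℂ) = (Fintype.card ι : ℂ) := by
    rw [← hd, ← hχ, Representation.char_one, Module.finrank_fin_fun, hn]
  simp only [Finset.sum_range_succ, Finset.sum_range_zero, pow_zero, Finset.sum_const,
    Finset.card_univ, nsmul_eq_mul, mul_one, zero_add, hval 2 hc, hval 3 hx3, hval 4 hx4,
    hval 1 (by rw [pow_one])] at hS
  rw [← hdn] at hS
  push_cast at hS
  have hq : (χ : G → ℂ) x = (((5 * (k : ℚ) - d) / 4 : ℚ) : ℂ) := by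
    push_cast
    linear_combination hS / 4
  obtain ⟨v, hv⟩ := exists_int_eq_of_isIntegral (irr_isIntegral χ x) _ hq
  refine ⟨v, hv, ?_⟩
  rw [hv] at hS
  have h4 : (d : ℤ) + 4 * v = 5 * (k : ℤ) := by
    have h' : (((d : ℤ) + 4 * v : ℤ) : ℂ) = ((5 * (k : ℤ) : ℤ) : ℂ) := by
      push_cast; linear_combination hS
    exact_mod_cast h'
  omega

theorem cube_cases : ∀ m < 11, 1 ≤ m →
    (∃ j < 5, m = 3 ^ j % 11) ∨ ∃ j < 5, (m + 3 ^ j) % 11 = 0 := by decide +kernel

/-- The squared modulus of the value at an element of order eleven conjugate to its cube. -/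
theorem exists_nat_normSq_eleven (χ : IrrCharacter G) {y : G} (hy : orderOf y = 11)
    (hc : IsConj y (y ^ 3)) {d : ℕ} (hd : (χ : G → ℂ) 1 = d) :
    ∃ q : ℕ, (χ : G → ℂ) y * conj ((χ : G → ℂ) y) = q ∧ q % 11 = d * d % 11 := by
  classical
  obtain ⟨n, ρ, hρ, hχ⟩ := χ.2
  obtain ⟨ι, _, μ, hn, hm, hsum⟩ := exists_pow_sum ρ y
  rw [hy] at hm
  have hy11 : y ^ 11 = 1 := hy ▸ pow_orderOf_eq_one y
  have hmod : ∀ m : ℕ, y ^ m = y ^ (m % 11) := fun m => by
    conv_lhs => rw [← Nat.mod_add_div m 11, pow_add, pow_mul, hy11, one_pow, mul_one]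
  set A := (χ : G → ℂ) y * conj ((χ : G → ℂ) y) with hA
  -- all non-trivial powers have values of the same modulus
  have h3 : ∀ j : ℕ, (χ : G → ℂ) (y ^ 3 ^ j) = (χ : G → ℂ) y := by
    intro j
    refine (isClassFunction_apply_eq (irr_isClassFunction χ) ?_).symm ▸ rfl
    induction j with
    | zero => rw [pow_zero, pow_one]
    | succ j ih =>
      have := hc.trans (isConj_pow_of_isConj ih 3)
      rwa [← pow_mul, ← pow_succ] at this
  have hall : ∀ m ∈ Finset.Ico 1 11,
      (χ : G → ℂ) (y ^ m) * conj ((χ : G → ℂ) (y ^ m)) = A := by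
    intro m hm'
    rw [Finset.mem_Ico] at hm'
    have hcases : (∃ j < 5, m = 3 ^ j % 11) ∨ ∃ j < 5, (m + 3 ^ j) % 11 = 0 := by
      exact cube_cases m hm'.2 hm'.1
    rcases hcases with ⟨j, -, rfl⟩ | ⟨j, -, hj⟩
    · rw [← hmod, h3, hA]
    · have h1 : y ^ m = (y ^ 3 ^ j)⁻¹ := by
        rw [eq_inv_iff_mul_eq_one, ← pow_add, hmod, hj, pow_zero]
      rw [h1, irr_inv, h3, Complex.conj_conj, mul_comm, hA]
  set S := ((Finset.univ ×ˢ Finset.univ).filter fun z : ι × ι => μ z.1 = μ z.2).card with hS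
  have hne : ∀ i, μ i ≠ 0 := fun i h => by
    have := hm i; simp [h] at this
  have hinv : ∀ i, conj (μ i) = (μ i)⁻¹ := fun i =>
    (Complex.inv_eq_conj (norm_eq_one_of_pow_eq_one (by norm_num) (hm i))).symm
  have htot : ∑ m ∈ Finset.range 11, (χ : G → ℂ) (y ^ m) * conj ((χ : G → ℂ) (y ^ m))
      = ((11 * S : ℕ) : ℂ) := by
    have : ∀ m : ℕ, (χ : G → ℂ) (y ^ m) * conj ((χ : G → ℂ) (y ^ m))
        = ∑ z ∈ Finset.univ ×ˢ Finset.univ, (μ z.1 * (μ z.2)⁻¹) ^ m := by
      intro m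
      rw [← hχ, hsum, map_sum, Finset.sum_mul_sum, Finset.sum_product]
      exact Finset.sum_congr rfl fun i _ => Finset.sum_congr rfl fun k _ => by
        rw [map_pow, hinv, mul_pow]
    rw [Finset.sum_congr rfl fun m _ => this m, Finset.sum_comm,
      Finset.sum_congr rfl fun z _ => sum_pow_root (r := 11) (z := μ z.1 * (μ z.2)⁻¹)
        (by rw [mul_pow, inv_pow, hm, hm, inv_one, mul_one])]
    rw [← Finset.sum_filter, Finset.sum_const, nsmul_eq_mul]
    have hf : ((Finset.univ ×ˢ Finset.univ).filter fun z : ι × ι => μ z.1 * (μ z.2)⁻¹ = 1)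
        = (Finset.univ ×ˢ Finset.univ).filter fun z : ι × ι => μ z.1 = μ z.2 :=
      Finset.filter_congr fun z _ => mul_inv_eq_one₀ (hne _)
    rw [hf, ← hS]; push_cast; ring
  rw [Finset.range_eq_Ico, Finset.sum_eq_sum_Ico_succ_bot (by norm_num), pow_zero, hd,
    Finset.sum_congr rfl hall, Finset.sum_const, Nat.card_Ico, nsmul_eq_mul, map_natCast] at htot
  push_cast at htot
  have hq : A = (((11 * (S : ℚ) - d * d) / 10 : ℚ) : ℂ) := by
    push_cast
    linear_combination htot / 10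
  obtain ⟨v, hv⟩ := exists_int_eq_of_isIntegral
    ((irr_isIntegral χ y).mul (isIntegral_conj (irr_isIntegral χ y))) _ hq
  have hv0 : 0 ≤ v := by
    have h' : (Complex.normSq ((χ : G → ℂ) y) : ℂ) = (v : ℂ) := by
      rw [← Complex.mul_conj]; exact hv
    have h'' : Complex.normSq ((χ : G → ℂ) y) = (v : ℝ) := by exact_mod_cast h'
    have := Complex.normSq_nonneg ((χ : G → ℂ) y)
    rw [h''] at this
    exact_mod_cast this
  obtain ⟨q, rfl⟩ := Int.eq_ofNat_of_zero_le hv0
  rw [← hA] at hv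
  refine ⟨q, by simpa using hv, ?_⟩
  rw [hv] at htot
  have h10 : d * d + 10 * q = 11 * S := by
    have h' : ((d * d + 10 * q : ℕ) : ℂ) = ((11 * S : ℕ) : ℂ) := by
      push_cast at htot ⊢; linear_combination htot
    exact_mod_cast h'
  have e1 : (d * d + 10 * q) % 11 = 0 := by rw [h10]; omega
  omega

/-- A linear character of a simple non-commutative group is trivial. -/
theorem eq_trivial_of_degree_one [IsSimpleGroup G] (hG : ¬ IsMulCommutative G)
    (χ : IrrCharacter G) (h : (χ : G → ℂ) 1 = 1) : χ = trivialIrr G := by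
  obtain ⟨n, ρ, hρ, hχ⟩ := χ.2
  have hn : n = 1 := by
    have : (n : ℂ) = 1 := by rw [← h, ← hχ, Representation.char_one, Module.finrank_fin_fun]
    exact_mod_cast this
  subst hn
  let f : G →* ℂˣ := MonoidHom.toHomUnits
    { toFun := fun g => LinearMap.det (ρ g)
      map_one' := by simp
      map_mul' := fun a b => by simp }
  refine Subtype.ext (funext fun g => ?_)
  have hdet : LinearMap.det (ρ g) = 1 :=
    congrArg Units.val (SmallGroups.hom_commGroup_eq_one hG f g)
  have htr : ρ.character g = LinearMap.det (ρ g) := by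
    rw [Representation.character, LinearMap.trace_eq_matrix_trace ℂ (Pi.basisFun ℂ (Fin 1)),
      ← LinearMap.det_toMatrix (Pi.basisFun ℂ (Fin 1)), Matrix.det_fin_one, Matrix.trace_fin_one]
  rw [trivialIrr_apply, ← hχ, htr, hdet]

end Cfsg.Agent.Lib.M11Degrees
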