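import Mathlib

/-!
The only multiset of degrees compatible with the two columns (orders 5 and 11) of a simple group of
order 7920, found by a checked exhaustive search.
-/

set_option autoImplicit false

namespace Cfsg.Agent.Lib.M11Degrees

/-- Admissible non-trivial degrees: divisors of `7920` between `2` and `88`. -/
def degList : List ℕ :=
  [2, 3, 4, 5, 6, 8, 9, 10, 11, 12, 15, 16, 18, 20, 22, 24, 30, 33, 36, 40, 44, 45, 48, 55, 60, 66,
    72, 80, 88]

theorem mem_degList {d : ℕ} (h2 : 2 ≤ d) (h88 : d < 89) (hd : d ∣ 7920) : d ∈ degList := by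
  revert h2 hd
  revert d
  decide +kernel

/-- Admissible pairs (degree, value at an element of order 5). -/
def itemList : List (ℕ × ℤ) :=
  degList.flatMap fun (d : ℕ) =>
    ([-2, -1, 0, 1, 2] : List ℤ).filterMap fun v => if (v - Int.ofNat d) % 5 = 0 then some (d, v) else none

/-- The non-trivial degrees. -/
def answer : List ℕ := [10, 10, 10, 11, 16, 16, 44, 45, 55]

/-- The remaining budget: squares of degrees, squares of values, weighted sum, bound of the other column. -/
structure State where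
  S : ℕ
  a : ℕ
  t : ℤ
  b : ℕ

/-- Exhaustive search; `true` means that every completion has the expected degrees. -/
def go : ℕ → List (ℕ × ℤ) → State → List ℕ → Bool
  | _, [], s, acc => !(s.S == 0 && s.a == 0 && s.t == 0) || acc.isPerm answer
  | 0, _ :: _, _, _ => false
  | f + 1, (d, v) :: rest, s, acc =>
    (if d * d ≤ s.S && v.natAbs * v.natAbs ≤ s.a && s.b + d * d % 11 ≤ 11 then
        go f ((d, v) :: rest) ⟨s.S - d * d, s.a - v.natAbs * v.natAbs, s.t + d * v, s.b + d * d % 11⟩
          (d :: acc)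
      else true) && go f rest s acc

theorem go_sound : ∀ (f : ℕ) (items : List (ℕ × ℤ)) (s : State) (acc : List ℕ),
    go f items s acc = true → ∀ L : Multiset (ℕ × ℤ), (∀ x ∈ L, x ∈ items) →
      (L.map fun x => x.1 * x.1).sum = s.S → (L.map fun x => x.2.natAbs * x.2.natAbs).sum = s.a →
      s.t + (L.map fun x => (x.1 : ℤ) * x.2).sum = 0 → s.b + (L.map fun x => x.1 * x.1 % 11).sum ≤ 11 →
      L.map Prod.fst + (acc : Multiset ℕ) = (answer : Multiset ℕ)
  | f, [], s, acc, h, L, hL, h1, h2, h3, _ => by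
    have : L = 0 := Multiset.eq_zero_of_forall_notMem fun x hx => by simpa using hL x hx
    subst this
    simp only [Multiset.map_zero, Multiset.sum_zero, add_zero] at h1 h2 h3
    rw [go] at h
    simp [← h1, ← h2, h3] at h
    simpa [List.isPerm_iff] using h
  | 0, _ :: _, _, _, h, _, _, _, _, _, _ => by simp [go] at h
  | f + 1, (d, v) :: rest, s, acc, h, L, hL, h1, h2, h3, h4 => by
    rw [go, Bool.and_eq_true] at h
    by_cases hdv : (d, v) ∈ L
    · obtain ⟨L', rfl⟩ := Multiset.exists_cons_of_mem hdv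
      simp only [Multiset.map_cons, Multiset.sum_cons] at h1 h2 h3 h4
      have hcond : (decide (d * d ≤ s.S) && decide (v.natAbs * v.natAbs ≤ s.a) &&
          decide (s.b + d * d % 11 ≤ 11)) = true := by
        simp only [Bool.and_eq_true, decide_eq_true_eq]
        omega
      have h' := h.1
      rw [if_pos hcond] at h'
      have := go_sound f _ _ _ h' L' (fun x hx => hL x (Multiset.mem_cons_of_mem hx))
        (by simp only; omega) (by simp only; omega)
        (by simp only; linarith) (by simp only; omega)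
      rw [← this, Multiset.map_cons, ← Multiset.cons_coe, Multiset.add_cons, Multiset.cons_add]
    · exact go_sound f rest s acc h.2 L
        (fun x hx => (List.mem_cons.1 (hL x hx)).resolve_left fun e => hdv (e ▸ hx)) h1 h2 h3 h4

theorem go_check : go 100 itemList ⟨7919, 4, 1, 1⟩ [] = true := by decide +kernel

/-- The only solution. -/
theorem degrees_eq (L : Multiset (ℕ × ℤ))
    (hd : ∀ x ∈ L, 2 ≤ x.1 ∧ x.1 ∣ 7920 ∧ (5 : ℤ) ∣ x.2 - x.1)
    (h1 : (L.map fun x => x.1 * x.1).sum = 7919)
    (h2 : (L.map fun x => x.2.natAbs * x.2.natAbs).sum = 4)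
    (h3 : 1 + (L.map fun x => (x.1 : ℤ) * x.2).sum = 0)
    (h4 : 1 + (L.map fun x => x.1 * x.1 % 11).sum ≤ 11) :
    L.map Prod.fst = (answer : Multiset ℕ) := by
  have := go_sound 100 itemList ⟨7919, 4, 1, 1⟩ [] go_check L ?_ h1 h2 h3 h4
  · simpa using this
  intro x hx
  obtain ⟨hx2, hxd, hxv⟩ := hd x hx
  have hb1 : x.1 * x.1 ≤ 7919 :=
    h1 ▸ Multiset.le_sum_of_mem (Multiset.mem_map_of_mem (fun x : ℕ × ℤ => x.1 * x.1) hx)
  have hb2 : x.2.natAbs * x.2.natAbs ≤ 4 :=
    h2 ▸ Multiset.le_sum_of_mem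
      (Multiset.mem_map_of_mem (fun x : ℕ × ℤ => x.2.natAbs * x.2.natAbs) hx)
  have h88 : x.1 < 89 := by nlinarith
  have hv : x.2.natAbs ≤ 2 := by nlinarith
  refine List.mem_flatMap.2 ⟨x.1, mem_degList hx2 h88 hxd, List.mem_filterMap.2 ⟨x.2, ?_, ?_⟩⟩
  · have : x.2 = -2 ∨ x.2 = -1 ∨ x.2 = 0 ∨ x.2 = 1 ∨ x.2 = 2 := by omega
    simp only [List.mem_cons, List.not_mem_nil, or_false]
    exact this
  · rw [if_pos (Int.emod_eq_zero_of_dvd (show (5 : ℤ) ∣ x.2 - Int.ofNat x.1 from hxv))]

end Cfsg.Agent.Lib.M11Degrees
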