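import Mathlib
import Cfsg.Agent.Lib.SmallGroups.Basic
import Cfsg.Agent.Lib.SmallGroups.PrimeSylow
import Cfsg.Agent.Lib.Regular.SmallRank

/-!
A simple group of order 7920: elements of order 11 and 5 are self-centralizing, conjugate to their cubes
resp. squares.
-/

set_option autoImplicit false
set_option linter.style.haveILetI false

namespace Cfsg.Agent.Lib.M11Degrees

open Subgroup MulAction Cfsg.Agent.Lib.SmallGroups
open scoped Pointwise

universe u

variable {G : Type u} [Group G] [Finite G]

theorem not_comm [IsSimpleGroup G] (h : Nat.card G = 7920) : ¬ IsMulCommutative G :=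
  not_isMulCommutative_of_not_prime (by rw [h]; norm_num)

/-- In a simple group an involution moves a multiple of four points. -/
theorem four_dvd_moved [IsSimpleGroup G] (hG : ¬ IsMulCommutative G) (X : Type*) [MulAction G X]
    [Finite X] {t : G} (ht : t * t = 1) :
    4 ∣ Nat.card X - Nat.card (fixedBy X t) ∧ Nat.card (fixedBy X t) ≤ Nat.card X := by
  classical
  haveI := Fintype.ofFinite X
  set σ := MulAction.toPermHom G X t with hσ
  have hσ2 : σ ^ 2 = 1 := by rw [hσ, ← map_pow, pow_two, ht, map_one]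
  have hsign : Equiv.Perm.sign σ = 1 := sign_toPerm hG X t
  rw [Equiv.Perm.sign_of_cycleType, Equiv.Perm.cycleType_of_pow_prime_eq_one hσ2,
    Multiset.sum_replicate, Multiset.card_replicate, smul_eq_mul] at hsign
  have heven : Even (Multiset.card σ.cycleType) := by
    by_contra hodd
    have hodd' : Odd (Multiset.card σ.cycleType * 2 + Multiset.card σ.cycleType) := by
      rw [Nat.not_even_iff_odd] at hodd
      exact (even_two.mul_left _).add_odd hodd
    rw [hodd'.neg_one_pow] at hsign
    exact absurd hsign (by decide)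
  have hsupp : σ.support.card = Multiset.card σ.cycleType * 2 := by
    have h1 := Equiv.Perm.sum_cycleType σ
    rw [Equiv.Perm.cycleType_of_pow_prime_eq_one hσ2, Multiset.sum_replicate, smul_eq_mul] at h1
    exact h1.symm
  have hfix : Nat.card (fixedBy X t) = Nat.card X - σ.support.card := by
    rw [Nat.card_eq_fintype_card (α := X), ← Finset.card_compl, ← Nat.card_eq_finsetCard]
    exact Nat.card_congr (Equiv.subtypeEquivRight fun a => by
      simp [hσ, MulAction.mem_fixedBy])
  obtain ⟨j, hj⟩ := heven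
  have hle := σ.support.card_le_univ
  rw [← Nat.card_eq_fintype_card] at hle
  exact ⟨⟨j, by omega⟩, by omega⟩

/-- If `y` of prime order `p` commutes with `t`, fixed points of `t` fixed by `y` count modulo `p`. -/
theorem fixedBy_modEq {X : Type*} [MulAction G X] [Finite X] {p : ℕ} [hp : Fact p.Prime] {t y : G}
    (hy : orderOf y = p) (hc : Commute y t) :
    Nat.card (fixedBy X t) ≡ Nat.card {a : X // t • a = a ∧ y • a = a} [MOD p] := by
  classical
  haveI := Fintype.ofFinite X
  have hinv : ∀ a : X, a ∈ fixedBy X t ↔ MulAction.toPerm y a ∈ fixedBy X t := by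
    intro a
    simp only [MulAction.mem_fixedBy, MulAction.toPerm_apply]
    rw [← mul_smul, ← hc.eq, mul_smul, smul_left_cancel_iff]
  let σ : Equiv.Perm (fixedBy X t) := (MulAction.toPerm y).subtypeEquiv hinv
  have hpow : ∀ n : ℕ, ∀ a : fixedBy X t, (((σ ^ n) a : fixedBy X t) : X) = y ^ n • (a : X) := by
    intro n
    induction n with
    | zero => simp
    | succ n ih =>
      intro a
      rw [pow_succ', Equiv.Perm.mul_apply, pow_succ', mul_smul, ← ih]
      rfl
  have hσ : σ ^ p ^ 1 = 1 := by
    ext a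
    rw [hpow, pow_one, ← hy, pow_orderOf_eq_one, one_smul, Equiv.Perm.one_apply]
  have hmod := Equiv.Perm.card_compl_support_modEq (p := p) (n := 1) hσ
  rw [Nat.card_eq_fintype_card (α := fixedBy X t)]
  suffices heq : σ.supportᶜ.card = Nat.card {a : X // t • a = a ∧ y • a = a} by
    rw [← heq]; exact hmod.symm
  rw [← Nat.card_eq_finsetCard]
  refine Nat.card_congr ((Equiv.subtypeEquivRight fun a => ?_).trans
    (Equiv.subtypeSubtypeEquivSubtypeInter (fun a : X => a ∈ fixedBy X t) fun a => y • a = a))
  rw [Finset.mem_compl, Equiv.Perm.notMem_support, Subtype.ext_iff]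
  rfl

theorem fixedBy_mod_eq_one {X : Type*} [MulAction G X] [Finite X] {p : ℕ} [hp : Fact p.Prime]
    {t y : G} (hy : orderOf y = p) (hc : Commute y t) (q : X) (htq : t • q = q) (hyq : y • q = q)
    (huniq : ∀ a : X, t • a = a → y • a = a → a = q) :
    Nat.card (fixedBy X t) % p = 1 := by
  have h := fixedBy_modEq (X := X) hy hc
  have h1 : Nat.card {a : X // t • a = a ∧ y • a = a} = 1 :=
    Nat.card_eq_one_iff_unique.2 ⟨⟨fun a b => Subtype.ext ((huniq a.1 a.2.1 a.2.2).trans
      (huniq b.1 b.2.1 b.2.2).symm)⟩, ⟨q, htq, hyq⟩⟩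
  rw [h1] at h
  rw [h, Nat.mod_eq_of_lt hp.out.one_lt]

/-- An involution acts non-trivially in a faithful action. -/
theorem fixedBy_lt [IsSimpleGroup G] {H : Subgroup G} (hH : H ≠ ⊤) {t : G} (ht : t ≠ 1) :
    Nat.card (fixedBy (G ⧸ H) t) < H.index := by
  refine lt_of_le_of_ne (Finite.card_subtype_le _) fun h => ?_
  refine ht (toPermHom_injective hH ?_)
  rw [map_one]
  ext a
  have hall : ∀ a : G ⧸ H, a ∈ fixedBy (G ⧸ H) t := by
    by_contra hn
    push Not at hn
    obtain ⟨b, hb⟩ := hn
    exact (Finite.card_subtype_lt (p := fun a => a ∈ fixedBy (G ⧸ H) t) hb).ne h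
  simpa using hall a

theorem sylow_prime_card {p m : ℕ} [Fact p.Prime] (h : Nat.card G = p * m) (hm : ¬ p ∣ m)
    (P : Sylow p G) : Nat.card (P : Subgroup G) = p := by
  rw [card_sylow_eq P (k := 1) (by rw [pow_one]; exact h) hm, pow_one]

variable [IsSimpleGroup G]

/-- An element of order 11 is self-centralizing and its normalizer has order 55. -/
theorem eleven (h : Nat.card G = 7920) {y : G} (hy : orderOf y = 11) :
    Nat.card (centralizer ({y} : Set G)) = 11 ∧
      Nat.card (normalizer (zpowers y : Set G)) = 55 ∧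
      Nat.card (Sylow 11 G) = 144 := by
  haveI : Fact (Nat.Prime 11) := ⟨by norm_num⟩
  haveI : Fact (Nat.Prime 2) := ⟨Nat.prime_two⟩
  classical
  have hG := not_comm h
  have hP0 : ∀ P : Sylow 11 G, Nat.card (P : Subgroup G) = 11 :=
    sylow_prime_card (m := 720) (by rw [h]) (by norm_num)
  obtain ⟨P, hP, -⟩ := existsUnique_sylow_of_orderOf default (hP0 _) hy
  have hPc := hP0 P
  have hn := card_sylow_mem hG (p := 11) (k := 1) (m := 720) (by rw [h]; norm_num) (by norm_num)
    (by norm_num)
  rw [show (Nat.divisors 720).filter (fun d => d % 11 = 1 ∧ d ≠ 1) = {12, 45, 144} by decide +kernel]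
    at hn
  simp only [Finset.mem_insert, Finset.mem_singleton] at hn
  obtain ⟨e, he, he1, hc11, hNC⟩ := exists_card_normalizer_eq_of_simple hG P hPc
  have hmul := card_normalizer_sylow_mul P
  have hCy : centralizer ({y} : Set G) = centralizer ((P : Subgroup G) : Set G) :=
    centralizer_eq_of_prime hPc (hP ▸ mem_zpowers y)
      (fun h1 => by rw [h1, orderOf_one] at hy; norm_num at hy)
  set C := centralizer ((P : Subgroup G) : Set G) with hC
  have he10 : e = 2 ∨ e = 5 ∨ e = 10 := by
    have := Nat.le_of_dvd (by norm_num) he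
    interval_cases e <;> simp_all
  rcases hn with hn | hn | hn
  · exfalso
    have hd := card_centralizer_dvd_of_card_sylow hG P hPc (k := 1) (by rw [hn])
    simp only [Nat.factorial_one, mul_one] at hd
    have hc := Nat.dvd_antisymm hd hc11
    rw [hn, h, hNC, hc] at hmul
    rcases he10 with rfl | rfl | rfl <;> norm_num at hmul
  · exfalso
    rw [hn, h, hNC] at hmul
    have hC88 : Nat.card C = 88 := by
      rcases he10 with rfl | rfl | rfl <;> omega
    set N := normalizer ((P : Subgroup G) : Set G) with hN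
    have hNtop : N ≠ ⊤ := normalizer_sylow_ne_top hG (by rw [h]; norm_num) P
    have hidx : Nat.card (G ⧸ N) = 45 := by
      rw [← hn, P.card_eq_index_normalizer]; rfl
    set q0 : G ⧸ N := QuotientGroup.mk 1 with hq0
    have hfixC : ∀ g ∈ C, g • q0 = q0 := by
      intro g hg
      change QuotientGroup.mk (g * 1) = QuotientGroup.mk 1
      rw [QuotientGroup.eq, mul_one, mul_one]
      exact N.inv_mem (centralizer_le_normalizer' _ hg)
    have hone := card_fixedBy_of_orderOf P hPc hy
    have hyq : y • q0 = q0 := hfixC y (le_centralizer_of_prime hPc (hP ▸ mem_zpowers y))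
    have huniq : ∀ a : G ⧸ N, y • a = a → a = q0 := fun a ha => by
      have := (Nat.card_eq_one_iff_unique.1 hone).1
      exact congrArg Subtype.val (this.elim (⟨a, ha⟩ : fixedBy (G ⧸ N) y) ⟨q0, hyq⟩)
    -- involutions centralizing `y` fix exactly one point
    have hinv : ∀ w ∈ C, w * w = 1 → w ≠ 1 → ∀ a : G ⧸ N, w • a = a → a = q0 := by
      intro w hw hw2 hw1
      have hcw : Commute y w := (mem_centralizer_singleton_iff.1 (hCy ▸ hw)).symm
      have h1 := fixedBy_mod_eq_one (X := G ⧸ N) hy hcw q0 (hfixC w hw) hyq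
        fun a _ ha => huniq a ha
      have h2 := (four_dvd_moved hG (G ⧸ N) hw2).1
      have h3 : Nat.card (fixedBy (G ⧸ N) w) < 45 := hidx ▸ fixedBy_lt hNtop hw1
      rw [hidx] at h2
      have h4 : Nat.card (fixedBy (G ⧸ N) w) = 1 := by omega
      intro a ha
      have := (Nat.card_eq_one_iff_unique.1 h4).1
      exact congrArg Subtype.val
        (this.elim (⟨a, ha⟩ : fixedBy (G ⧸ N) w) ⟨q0, hfixC w hw⟩)
    obtain ⟨Q₀, hQ₀⟩ := Sylow.exists_subgroup_card_pow_prime 2 (n := 3) (G := C)
      (by rw [hC88]; norm_num)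
    set Q := Q₀.map C.subtype with hQ
    have hQc : Nat.card Q = 8 := by
      rw [hQ, card_map_of_injective C.subtype_injective, hQ₀]; norm_num
    have hQC : Q ≤ C := Subgroup.map_subtype_le _
    have hQfix : ∀ g : Q, g ≠ 1 → Nat.card (fixedBy (G ⧸ N) g) = 1 := by
      intro g hg
      rw [Nat.card_eq_one_iff_unique]
      refine ⟨⟨fun a b => ?_⟩, ⟨q0, hfixC _ (hQC g.2)⟩⟩
      obtain ⟨k, hk⟩ := IsPGroup.iff_orderOf.1 (IsPGroup.of_card (p := 2) (n := 3) (by rw [hQc]; norm_num)) g
      obtain ⟨j, rfl⟩ : ∃ j, k = j + 1 := by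
        rcases k with _ | j
        · exact absurd (orderOf_eq_one_iff.1 (by simpa using hk)) hg
        · exact ⟨j, rfl⟩
      set w := g ^ 2 ^ j with hw
      have hw2 : w * w = 1 := by
        rw [hw, ← pow_two, ← pow_mul, ← pow_succ, ← hk, pow_orderOf_eq_one]
      have hw1 : w ≠ 1 := by
        intro h1
        rw [hw, ← orderOf_dvd_iff_pow_eq_one, hk] at h1
        have := (Nat.pow_dvd_pow_iff_le_right (by norm_num)).1 h1
        omega
      have hall : ∀ c : fixedBy (G ⧸ N) g, c.1 = q0 := fun c => by
        refine hinv w (hQC w.2) (congrArg Subtype.val hw2) (fun h1 => hw1 (Subtype.ext h1)) _ ?_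
        have : w ∈ stabilizer Q c.1 := pow_mem (show g ∈ stabilizer Q c.1 from c.2) _
        exact this
      exact Subtype.ext ((hall a).trans (hall b).symm)
    haveI := Fintype.ofFinite (G ⧸ N)
    haveI := Fintype.ofFinite Q
    haveI := Fintype.ofFinite (Quotient (orbitRel Q (G ⧸ N)))
    have hsum := sum_card_fixedBy_eq_card_orbits_mul_card_group Q (G ⧸ N)
    have hL : (∑ g : Q, Fintype.card (fixedBy (G ⧸ N) g)) = 45 + 7 := by
      have h1 : (1 : Q) ∈ (Finset.univ : Finset Q) := Finset.mem_univ _
      rw [← Finset.add_sum_erase _ _ h1, Finset.sum_congr rfl (g := fun _ => 1) fun g hg => by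
        rw [← Nat.card_eq_fintype_card, hQfix g (Finset.ne_of_mem_erase hg)],
        Finset.sum_const, Finset.card_erase_of_mem h1, Finset.card_univ, ← Nat.card_eq_fintype_card,
        ← Nat.card_eq_fintype_card, hQc, smul_eq_mul, mul_one]
      congr 1
      rw [← hidx]
      exact Nat.card_congr ((Equiv.subtypeEquivRight fun a =>
        ⟨fun _ => trivial, fun _ => one_smul Q a⟩).trans (Equiv.Set.univ (G ⧸ N)))
    rw [hL, ← Nat.card_eq_fintype_card (α := Q), hQc] at hsum
    omega
  · rw [hn, h, hNC] at hmul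
    have hC11 : Nat.card C = 11 := by
      obtain ⟨c, hc⟩ := hc11
      rw [hc] at hmul
      rcases he10 with rfl | rfl | rfl <;> omega
    refine ⟨hCy ▸ hC11, ?_, hn⟩
    rw [← hP, hNC]
    omega

/-- Elements of order 11 are conjugate to their cubes, and some element of order 5 normalizes. -/
theorem exists_five_normalizing (h : Nat.card G = 7920) {y : G} (hy : orderOf y = 11) :
    ∃ x : G, orderOf x = 5 ∧ x ∈ normalizer (zpowers y : Set G) ∧
      x ∉ centralizer ({y} : Set G) ∧ IsConj y (y ^ 3) := by
  haveI : Fact (Nat.Prime 5) := ⟨by norm_num⟩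
  obtain ⟨hC, hN, -⟩ := eleven h hy
  obtain ⟨⟨x, hxN⟩, hx⟩ := exists_prime_orderOf_dvd_card' 5
    (G := normalizer (zpowers y : Set G)) (by rw [hN]; norm_num)
  rw [Subgroup.orderOf_mk] at hx
  have hxC : x ∉ centralizer ({y} : Set G) := fun hx' => by
    have := Subgroup.orderOf_dvd_natCard _ hx'
    rw [hx, hC] at this
    norm_num at this
  refine ⟨x, hx, hxN, hxC, ?_⟩
  obtain ⟨k, hk⟩ := mem_powers_iff_mem_zpowers.2 ((mem_normalizer_iff.1 hxN y).1 (mem_zpowers y))
  simp only at hk
  have hiter : ∀ i : ℕ, x ^ i * y * (x ^ i)⁻¹ = y ^ (k ^ i) := by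
    intro i
    induction i with
    | zero => simp
    | succ i ih =>
      calc x ^ (i + 1) * y * (x ^ (i + 1))⁻¹ = x * (x ^ i * y * (x ^ i)⁻¹) * x⁻¹ := by
            rw [pow_succ']; group
        _ = y ^ (k ^ (i + 1)) := by rw [ih, ← conj_pow, ← hk, ← pow_mul, pow_succ']
  have hy11 : ∀ a b : ℕ, y ^ a = y ^ b ↔ a % 11 = b % 11 := fun a b => by
    rw [pow_eq_pow_iff_modEq, hy]; rfl
  have h5 : k ^ 5 % 11 = 1 := by
    have h1 := hiter 5
    rw [← hx, pow_orderOf_eq_one, one_mul, inv_one, mul_one, hx, eq_comm] at h1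
    exact (hy11 (k ^ 5) 1).1 (by rw [pow_one]; exact h1)
  have hk1 : k % 11 ≠ 1 := by
    intro h1
    apply hxC
    rw [mem_centralizer_singleton_iff]
    have h2 : y ^ k = y ^ 1 := (hy11 _ _).2 (by omega)
    rw [pow_one] at h2
    rw [h2] at hk
    exact mul_inv_eq_iff_eq_mul.1 hk.symm
  obtain ⟨i, hi⟩ : ∃ i, k ^ i % 11 = 3 := by
    have key : ∀ j < 11, j ^ 5 % 11 = 1 → j ≠ 1 → ∃ i < 5, j ^ i % 11 = 3 := by decide +kernel
    obtain ⟨i, -, hi⟩ := key (k % 11) (Nat.mod_lt _ (by norm_num)) (by rw [← Nat.pow_mod]; exact h5) hk1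
    exact ⟨i, by rw [Nat.pow_mod]; exact hi⟩
  exact isConj_iff.2 ⟨x ^ i, (hiter i).trans ((hy11 _ _).2 (by omega))⟩

/-- The counting contradiction in a subgroup of order 120 with six Sylow 5-subgroups and a central involution. -/
theorem no_forty_six {M : Type u} [Group M] [Finite M] (hM : Nat.card M = 120)
    (h5 : Nat.card (Sylow 5 M) = 6) {x t : M} (hx : orderOf x = 5) (ht : orderOf t = 2)
    (htc : t ∈ center M) (hCx : Nat.card (centralizer ({x} : Set M)) ∣ 10) :
    Nat.card {z : M // z * z = 1} < 47 ∧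
      ∀ v u : M, orderOf v = 3 → orderOf u = 2 → u ≠ t → ¬ Commute u v := by
  classical
  haveI : Fact (Nat.Prime 5) := ⟨by norm_num⟩
  haveI : Fact (Nat.Prime 3) := ⟨Nat.prime_three⟩
  have hS5 : ∀ Q : Sylow 5 M, Nat.card (Q : Subgroup M) = 5 :=
    sylow_prime_card (m := 24) (by rw [hM]) (by norm_num)
  have hS3 : ∀ Q : Sylow 3 M, Nat.card (Q : Subgroup M) = 3 :=
    sylow_prime_card (m := 40) (by rw [hM]) (by norm_num)
  have hT5 : Nat.card {g : M // orderOf g = 5} = 24 := by
    rw [card_orderOf_eq_prime default (hS5 _), h5]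
  have hn3 : 10 ≤ Nat.card (Sylow 3 M) := by
    have hd : Nat.card (Sylow 3 M) ∣ 40 :=
      card_sylow_dvd (p := 3) (k := 1) (m := 40) (by rw [hM]; norm_num) (by norm_num)
    have hm := card_sylow_modEq_one 3 M
    rw [Nat.ModEq] at hm
    have hno : ∀ Q : Sylow 3 M, x • Q ≠ Q := by
      intro Q hQ
      have hxn := Sylow.smul_eq_iff_mem_normalizer.1 hQ
      obtain ⟨e, he, hcard⟩ := exists_card_normalizer_eq (hS3 Q)
      have hxC : x ∈ centralizer ((Q : Subgroup M) : Set M) := by
        have hi : ((centralizer ((Q : Subgroup M) : Set M)).subgroupOf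
            (normalizer ((Q : Subgroup M) : Set M))).index ∣ 2 := relIndex_centralizer_dvd (hS3 Q)
        haveI : ((centralizer ((Q : Subgroup M) : Set M)).subgroupOf
            (normalizer ((Q : Subgroup M) : Set M))).Normal := by
          rw [← normalizerMonoidHom_ker]; infer_instance
        have := Subgroup.pow_index_mem ((centralizer ((Q : Subgroup M) : Set M)).subgroupOf
          (normalizer ((Q : Subgroup M) : Set M))) ⟨x, hxn⟩
        obtain ⟨j, hj⟩ := hi
        have h2 : x ^ 2 ∈ centralizer ((Q : Subgroup M) : Set M) := by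
          rw [hj, pow_mul]
          exact pow_mem (mem_subgroupOf.1 this) _
        have h6 : x = (x ^ 2) ^ 3 := by
          rw [← pow_mul, show 2 * 3 = 5 + 1 from rfl, pow_add, ← hx, pow_orderOf_eq_one, one_mul,
            pow_one]
        rw [h6]; exact pow_mem h2 _
      obtain ⟨v, hv⟩ := exists_prime_orderOf_dvd_card' 3 (G := (Q : Subgroup M)) (by rw [hS3])
      have hvx : (v : M) ∈ centralizer ({x} : Set M) :=
        mem_centralizer_singleton_iff.2 (mem_centralizer_iff.1 hxC v v.2)
      have := (Subgroup.orderOf_dvd_natCard _ hvx).trans hCx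
      rw [Subgroup.orderOf_coe, hv] at this
      norm_num at this
    have h5d : Nat.card (Sylow 3 M) % 5 = 0 := by
      haveI := Fintype.ofFinite (Sylow 3 M)
      have hσ : (MulAction.toPermHom M (Sylow 3 M) x) ^ 5 ^ 1 = 1 := by
        rw [pow_one, ← map_pow, ← hx, pow_orderOf_eq_one, map_one]
      have h1 := Equiv.Perm.card_compl_support_modEq (p := 5) (n := 1) hσ
      have h0 : (MulAction.toPermHom M (Sylow 3 M) x).supportᶜ = ∅ := by
        ext Q; simp [hno Q]
      rw [h0, Finset.card_empty] at h1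
      rw [Nat.card_eq_fintype_card]
      exact h1.symm
    have := Nat.le_of_dvd (by norm_num) hd
    interval_cases hc : Nat.card (Sylow 3 M) <;> omega
  have hT3 : 20 ≤ Nat.card {g : M // orderOf g = 3} := by
    rw [card_orderOf_eq_prime default (hS3 _)]; omega
  have ht2 : t * t = 1 := by rw [← pow_two, ← ht, pow_orderOf_eq_one]
  have ht1 : t ≠ 1 := fun h => by rw [h, orderOf_one] at ht; norm_num at ht
  have htcomm : ∀ g : M, Commute g t := fun g => mem_center_iff.1 htc g
  -- products of elements of odd prime order with commuting square roots of one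
  have hord : ∀ (r : ℕ), r = 3 ∨ r = 5 → ∀ g q : M, orderOf g = r → q * q = 1 → Commute g q →
      (g * q) ^ (2 * r) = 1 ∧ (g * q) * (g * q) ≠ 1 ∧ ∀ j, j % r = 1 → j % 2 = 0 → (g * q) ^ j = g := by
    intro r hr g q hg hq hc
    have hq2 : q ^ 2 = 1 := by rw [pow_two, hq]
    have hpow : ∀ j, (g * q) ^ j = g ^ (j % r) * q ^ (j % 2) := fun j => by
      rw [hc.mul_pow, ← hg, ← pow_mod_orderOf g j]
      congr 1
      conv_lhs => rw [← Nat.mod_add_div j 2, pow_add, pow_mul, hq2, one_pow, mul_one]
    refine ⟨?_, fun h => ?_, fun j h1 h2 => ?_⟩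
    · rw [hpow, Nat.mul_mod_left, Nat.mul_mod_right, pow_zero, pow_zero, one_mul]
    · rw [← pow_two, hpow, pow_zero, mul_one, ← orderOf_dvd_iff_pow_eq_one, hg] at h
      rcases hr with rfl | rfl <;> norm_num at h
    · rw [hpow, h1, h2, pow_one, pow_zero, mul_one]
  -- the pairwise disjoint sets
  let A := {z : M // z ^ 6 = 1 ∧ z * z ≠ 1}
  let B := {z : M // z ^ 10 = 1 ∧ z * z ≠ 1}
  let I := {z : M // z * z = 1}
  have hsum : Nat.card A + Nat.card B + Nat.card I ≤ 120 := by
    rw [← hM, ← Nat.card_sum, ← Nat.card_sum]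
    refine Nat.card_le_card_of_injective (Sum.elim (Sum.elim Subtype.val Subtype.val) Subtype.val) ?_
    have hAB : ∀ z : M, z ^ 6 = 1 → z ^ 10 = 1 → z * z = 1 := by
      intro z h1 h2
      have := Nat.dvd_gcd (orderOf_dvd_of_pow_eq_one h1) (orderOf_dvd_of_pow_eq_one h2)
      rw [← pow_two]
      exact orderOf_dvd_iff_pow_eq_one.1 this
    refine Function.Injective.sumElim ?_ Subtype.val_injective fun a b h => ?_
    · exact Subtype.val_injective.sumElim Subtype.val_injective fun a b h =>
        a.2.2 (hAB a.1 a.2.1 (h ▸ b.2.1))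
    · rcases a with a | a
      · exact a.2.2 ((show a.1 = b.1 from h) ▸ b.2)
      · exact a.2.2 ((show a.1 = b.1 from h) ▸ b.2)
  have htq : ∀ i : Bool, (if i then t else 1) * (if i then t else 1) = 1 := by
    intro i; cases i <;> simp [ht2]
  have htqc : ∀ (g : M) (i : Bool), Commute g (if i then t else 1) := by
    intro g i; cases i <;> simp [htcomm g]
  have htinj : ∀ i j : Bool, (if i then t else 1) = (if j then t else 1) → i = j := by
    intro i j; cases i <;> cases j <;> simp [ht1, Ne.symm ht1]
  have hB : 48 ≤ Nat.card B := by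
    rw [show 48 = Nat.card ({g : M // orderOf g = 5} × Bool) by
      rw [Nat.card_prod, hT5, Nat.card_eq_fintype_card, Fintype.card_bool]]
    refine Nat.card_le_card_of_injective (fun z => (⟨z.1.1 * (if z.2 then t else 1), ?_⟩ : B)) ?_
    · obtain ⟨h1, h2, -⟩ := hord 5 (Or.inr rfl) z.1.1 _ z.1.2 (htq z.2) (htqc _ _)
      exact ⟨h1, h2⟩
    · intro a b h
      have hv := congrArg Subtype.val h
      simp only at hv
      have e1 := (hord 5 (Or.inr rfl) a.1.1 _ a.1.2 (htq a.2) (htqc _ _)).2.2 6 rfl rfl
      have e2 := (hord 5 (Or.inr rfl) b.1.1 _ b.1.2 (htq b.2) (htqc _ _)).2.2 6 rfl rfl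
      have h1 : a.1.1 = b.1.1 := by rw [← e1, hv, e2]
      exact Prod.ext (Subtype.ext h1) (htinj _ _ (mul_left_cancel (h1 ▸ hv)))
  refine ⟨?_, ?_⟩
  · have hA : 40 ≤ Nat.card A := by
      refine le_trans ?_ (Nat.card_le_card_of_injective
        (fun z : {g : M // orderOf g = 3} × Bool => (⟨z.1.1 * (if z.2 then t else 1), ?_⟩ : A)) ?_)
      · rw [Nat.card_prod, Nat.card_eq_fintype_card (α := Bool), Fintype.card_bool]; omega
      · obtain ⟨h1, h2, -⟩ := hord 3 (Or.inl rfl) z.1.1 _ z.1.2 (htq z.2) (htqc _ _)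
        exact ⟨h1, h2⟩
      · intro a b h
        have hv := congrArg Subtype.val h
        simp only at hv
        have e1 := (hord 3 (Or.inl rfl) a.1.1 _ a.1.2 (htq a.2) (htqc _ _)).2.2 4 rfl rfl
        have e2 := (hord 3 (Or.inl rfl) b.1.1 _ b.1.2 (htq b.2) (htqc _ _)).2.2 4 rfl rfl
        have h1 : a.1.1 = b.1.1 := by rw [← e1, hv, e2]
        exact Prod.ext (Subtype.ext h1) (htinj _ _ (mul_left_cancel (h1 ▸ hv)))
    change Nat.card I < 47
    omega
  · intro v u hv hu hut huv
    have hu2 : u * u = 1 := by rw [← pow_two, ← hu, pow_orderOf_eq_one]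
    have hu1 : u ≠ 1 := fun h => by rw [h, orderOf_one] at hu; norm_num at hu
    let q : Bool × Bool → M := fun i => (if i.1 then u else 1) * (if i.2 then t else 1)
    have hq2 : ∀ i, q i * q i = 1 := by
      rintro ⟨i, j⟩
      simp only [q]
      rw [(htqc (if i then u else 1) j).symm.mul_mul_mul_comm, htq, mul_one]
      cases i <;> simp [hu2]
    have hqv : ∀ i, Commute v (q i) := by
      rintro ⟨i, j⟩
      exact Commute.mul_right (by cases i <;> simp [huv.symm]) (htqc _ _)
    have hqinj : Function.Injective q := by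
      have hutt : u * t ≠ 1 := fun h => hut (by
        rw [mul_eq_one_iff_eq_inv] at h
        rw [h]; exact inv_eq_of_mul_eq_one_right ht2)
      rintro ⟨i, j⟩ ⟨i', j'⟩ h
      cases i <;> cases j <;> cases i' <;> cases j' <;>
        simp [q, ht1, Ne.symm ht1, hu1, Ne.symm hu1, hut, Ne.symm hut, hutt, Ne.symm hutt] at h ⊢
    have hQv := existsUnique_sylow_of_orderOf (default : Sylow 3 M) (hS3 _) hv
    obtain ⟨R, hR, -⟩ := hQv
    have hconj : ∀ w : {g : M // orderOf g = 3}, ∃ g : M, ∀ c, Commute v c →
        Commute w.1 (g * c * g⁻¹) := by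
      intro w
      obtain ⟨R', hR', -⟩ := existsUnique_sylow_of_orderOf (default : Sylow 3 M) (hS3 _) w.2
      obtain ⟨g, hg⟩ := exists_smul_eq M R R'
      refine ⟨g, fun c hc => ?_⟩
      have hw : w.1 ∈ ((g • R : Sylow 3 M) : Subgroup M) := by rw [hg, hR']; exact mem_zpowers _
      change w.1 ∈ MulAut.conj g • (R : Subgroup M) at hw
      rw [hR, Subgroup.mem_pointwise_smul_iff_inv_smul_mem] at hw
      obtain ⟨i, hi⟩ := mem_zpowers_iff.1 hw
      have hwc : Commute (g⁻¹ * w.1 * g) c := by
        have : g⁻¹ * w.1 * g = v ^ i := by rw [hi]; simp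
        rw [this]; exact hc.zpow_left i
      have := (Commute.conj_iff g).2 hwc
      rwa [show g * (g⁻¹ * w.1 * g) * g⁻¹ = w.1 by group] at this
    choose g hg using hconj
    have hA : 80 ≤ Nat.card A := by
      refine le_trans ?_ (Nat.card_le_card_of_injective
        (fun z : {g : M // orderOf g = 3} × (Bool × Bool) =>
          (⟨z.1.1 * (g z.1 * q z.2 * (g z.1)⁻¹), ?_⟩ : A)) ?_)
      · rw [Nat.card_prod, Nat.card_eq_fintype_card (α := Bool × Bool), Fintype.card_prod,
          Fintype.card_bool]; omega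
      · obtain ⟨h1, h2, -⟩ := hord 3 (Or.inl rfl) z.1.1 (g z.1 * q z.2 * (g z.1)⁻¹) z.1.2
          (by rw [conj_mul, hq2, mul_one, mul_inv_cancel]) (hg z.1 _ (hqv _))
        exact ⟨h1, h2⟩
      · intro a b h
        have hv' := congrArg Subtype.val h
        simp only at hv'
        have e1 := (hord 3 (Or.inl rfl) a.1.1 _ a.1.2
          (by rw [conj_mul, hq2, mul_one, mul_inv_cancel]) (hg a.1 _ (hqv a.2))).2.2 4 rfl rfl
        have e2 := (hord 3 (Or.inl rfl) b.1.1 _ b.1.2
          (by rw [conj_mul, hq2, mul_one, mul_inv_cancel]) (hg b.1 _ (hqv b.2))).2.2 4 rfl rfl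
        have h1 : a.1 = b.1 := Subtype.ext (by rw [← e1, hv', e2])
        rw [h1] at hv'
        exact Prod.ext h1 (hqinj (mul_left_cancel (mul_right_cancel (mul_left_cancel hv'))))
    omega

/-- An element of order five with `|C(x)| = 10` is impossible. -/
theorem centralizer_five_ne_ten (h : Nat.card G = 7920) {x : G} (hx : orderOf x = 5)
    (hN : Nat.card (normalizer (zpowers x : Set G)) = 20)
    (hC : Nat.card (centralizer ({x} : Set G)) = 10) : False := by
  classical
  haveI : Fact (Nat.Prime 5) := ⟨by norm_num⟩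
  haveI : Fact (Nat.Prime 3) := ⟨Nat.prime_three⟩
  haveI : Fact (Nat.Prime 2) := ⟨Nat.prime_two⟩
  haveI : Fact (Nat.Prime 11) := ⟨by norm_num⟩
  have hG := not_comm h
  set C := centralizer ({x} : Set G) with hCdef
  obtain ⟨t', ht'⟩ := exists_prime_orderOf_dvd_card' 2 (G := C) (by rw [hC]; norm_num)
  set t : G := (t' : G) with htdef
  have ht : orderOf t = 2 := by rw [htdef, Subgroup.orderOf_coe, ht']
  have htC : Commute t x := mem_centralizer_singleton_iff.1 t'.2
  have ht2 : t * t = 1 := by rw [← pow_two, ← ht, pow_orderOf_eq_one]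
  have ht1 : t ≠ 1 := fun h' => by rw [h', orderOf_one] at ht; norm_num at ht
  have hcyc : IsCyclic C := by
    refine isCyclic_of_orderOf_eq_card (⟨x, mem_centralizer_singleton_iff.2 rfl⟩ * t') ?_
    rw [← Subgroup.orderOf_coe, Subgroup.coe_mul, hC]
    rw [Commute.orderOf_mul_eq_mul_orderOf_of_coprime htC.symm (by rw [hx, ht]; norm_num), hx, ht]
  have huniq2 : ∀ z ∈ C, z * z = 1 → z ≠ 1 → z = t := by
    intro z hz hz2 hz1
    have hm := Regular.mem_zpowers_of_isCyclic (C := C) (p := 2) (x := t') (y := ⟨z, hz⟩)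
      (by rw [← ht']; exact pow_orderOf_eq_one _) (fun h' => by rw [h', orderOf_one] at ht'; norm_num at ht')
      (Subtype.ext (by simp [pow_two, hz2]))
    obtain ⟨i, hi⟩ := mem_powers_iff_mem_zpowers.2 hm
    have hi' : t ^ i = z := by simpa [htdef] using congrArg Subtype.val hi
    rcases Nat.even_or_odd i with ⟨j, rfl⟩ | ⟨j, rfl⟩
    · rw [← two_mul, pow_mul, pow_two, ht2, one_pow] at hi'
      exact absurd hi'.symm hz1
    · rw [pow_succ, pow_mul, pow_two, ht2, one_pow, one_mul] at hi'
      exact hi'.symm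
  set N := normalizer (zpowers x : Set G) with hNdef
  set M := centralizer ({t} : Set G) with hMdef
  have hNM : N ≤ M := by
    intro g hg
    rw [hMdef, mem_centralizer_singleton_iff]
    obtain ⟨i, hi⟩ := mem_zpowers_iff.1 ((mem_normalizer_iff''.1 hg x).1 (mem_zpowers x))
    have hcx : Commute (g * t * g⁻¹) x := by
      have h0 : Commute t (g⁻¹ * x * g) := hi ▸ htC.zpow_right i
      have h1 := (Commute.conj_iff g).2 h0
      rwa [show g * (g⁻¹ * x * g) * g⁻¹ = x by group] at h1
    have := huniq2 (g * t * g⁻¹) (mem_centralizer_singleton_iff.2 hcx)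
      (by rw [conj_mul, ht2, mul_one, mul_inv_cancel]) (fun h' => ht1 (conj_eq_one_iff.1 h'))
    exact mul_inv_eq_iff_eq_mul.1 this
  have hxM : x ∈ M := mem_centralizer_singleton_iff.2 htC.symm
  have hdiv : 20 ∣ Nat.card M := hN ▸ card_dvd_of_le hNM
  have h11 : ¬ 11 ∣ Nat.card M := by
    intro hd
    obtain ⟨⟨z, hzM⟩, hz⟩ := exists_prime_orderOf_dvd_card' 11 (G := M) hd
    rw [Subgroup.orderOf_mk] at hz
    have h1 : t ∈ centralizer ({z} : Set G) :=
      mem_centralizer_singleton_iff.2 (mem_centralizer_singleton_iff.1 hzM).symm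
    have := Subgroup.orderOf_dvd_natCard _ h1
    rw [ht, (eleven h hz).1] at this
    norm_num at this
  have hdG : Nat.card M ∣ 7920 := h ▸ card_subgroup_dvd_card M
  -- Sylow 5-subgroups of `M`
  set x' : M := ⟨x, hxM⟩ with hx'def
  have hx' : orderOf x' = 5 := by rw [hx'def, Subgroup.orderOf_mk, hx]
  obtain ⟨k, hk⟩ := hdiv
  have hS : ∀ Q : Sylow 5 M, Nat.card (Q : Subgroup M) = 5 := by
    refine sylow_prime_card (m := 4 * k) (by rw [hk]; ring) fun hd => ?_
    have h5k : 5 ∣ k := (Nat.Coprime.dvd_of_dvd_mul_left (by norm_num) hd)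
    obtain ⟨l, rfl⟩ := h5k
    rw [hk] at hdG
    have : 25 ∣ 7920 := (Dvd.intro (4 * l) (by ring)).trans hdG
    norm_num at this
  obtain ⟨Q, hQ, -⟩ := existsUnique_sylow_of_orderOf default (hS _) hx'
  have hk5 : Nat.card (Sylow 5 M) = k := by
    have h1 := card_normalizer_sylow_mul Q
    have hNN : normalizer ((Q : Subgroup M) : Set M) = N.subgroupOf M := by
      have hm : (zpowers x').map M.subtype = zpowers x := by rw [MonoidHom.map_zpowers]; rfl
      ext g
      rw [hQ, mem_subgroupOf, hNdef, mem_normalizer_iff, mem_normalizer_iff]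
      have hiff : ∀ z : M, z ∈ zpowers x' ↔ (z : G) ∈ zpowers x := fun z => by
        rw [← hm]; exact (mem_map_iff_mem M.subtype_injective).symm
      refine ⟨fun hh z => ?_, fun hh z => ?_⟩
      · constructor
        · intro hz
          have hzM : z ∈ M := zpowers_le.2 hxM hz
          have := (hiff _).1 ((hh ⟨z, hzM⟩).1 ((hiff _).2 hz))
          simpa using this
        · intro hz
          have hzM : z ∈ M := by
            have := zpowers_le.2 hxM hz
            simpa [mul_assoc] using M.mul_mem (M.mul_mem (M.inv_mem g.2) this) g.2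
          have hz' : ((g * ⟨z, hzM⟩ * g⁻¹ : M) : G) ∈ zpowers x := by simpa using hz
          exact (hiff _).1 ((hh ⟨z, hzM⟩).2 ((hiff _).2 hz'))
      · rw [hiff, hiff]
        simpa using hh (z : G)
    rw [hNN, Nat.card_congr (subgroupOfEquivOfLe hNM).toEquiv, hN, hk] at h1
    exact Nat.eq_of_mul_eq_mul_left (by norm_num) h1
  have hkmod : k % 5 = 1 := by
    have := card_sylow_modEq_one 5 M
    rw [hk5] at this
    exact this
  -- the action on the cosets of `M`
  have hMtop : M ≠ ⊤ := centralizer_ne_top hG ht1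
  have hidx : M.index * (20 * k) = 7920 := by rw [← hk, ← h, mul_comm, card_mul_index]
  set q0 : G ⧸ M := QuotientGroup.mk 1 with hq0
  have hfixM : ∀ g ∈ M, g • q0 = q0 := by
    intro g hg
    change QuotientGroup.mk (g * 1) = QuotientGroup.mk 1
    rw [QuotientGroup.eq, mul_one, mul_one]
    exact M.inv_mem hg
  have hmem : ∀ g b : G, g • (QuotientGroup.mk b : G ⧸ M) = QuotientGroup.mk b ↔ b⁻¹ * g * b ∈ M := by
    intro g b
    change QuotientGroup.mk (g * b) = QuotientGroup.mk b ↔ _
    rw [QuotientGroup.eq, ← M.inv_mem_iff]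
    simp [mul_assoc]
  have hxuniq : ∀ a : G ⧸ M, x • a = a → a = q0 := by
    intro a ha
    induction a using QuotientGroup.induction_on with
    | H b =>
      have hb := (hmem x b).1 ha
      set z : M := ⟨b⁻¹ * x * b, hb⟩ with hz
      have hzo : orderOf z = 5 := by
        rw [hz, Subgroup.orderOf_mk]
        have := (MulAut.conj b⁻¹).orderOf_eq x
        simpa [hx, mul_assoc] using this
      obtain ⟨R, hR, -⟩ := existsUnique_sylow_of_orderOf default (hS _) hzo
      obtain ⟨m, hm⟩ := exists_smul_eq M R Q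
      have hzm : m * z * m⁻¹ ∈ (Q : Subgroup M) := by
        rw [← hm]
        change m * z * m⁻¹ ∈ MulAut.conj m • (R : Subgroup M)
        exact ⟨z, hR ▸ mem_zpowers z, rfl⟩
      rw [hQ] at hzm
      obtain ⟨i, hi⟩ := mem_zpowers_iff.1 hzm
      have hi' : x ^ i = (m : G) * (b⁻¹ * x * b) * (m : G)⁻¹ := by
        simpa [hz, hx'def] using congrArg Subtype.val hi
      have hg : b * (m : G)⁻¹ ∈ N := by
        have heq : (b * (m : G)⁻¹)⁻¹ * x * (b * (m : G)⁻¹) = x ^ i := by rw [hi']; group
        have hne : x ^ i ≠ 1 := by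
          intro h1
          rw [hi', conj_eq_one_iff] at h1
          have : x = 1 := by
            rw [show x = b * (b⁻¹ * x * b) * b⁻¹ by group, h1]; group
          rw [this, orderOf_one] at hx; norm_num at hx
        have hgen : zpowers (x ^ i) = zpowers x :=
          zpowers_eq_of_prime (p := 5) (by rw [Nat.card_zpowers, hx]) (zpow_mem (mem_zpowers x) i) hne
        have hinv : (b * (m : G)⁻¹)⁻¹ ∈ N := by
          have hmap : (zpowers x).map (MulAut.conj (b * (m : G)⁻¹)⁻¹).toMonoidHom = zpowers x := by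
            rw [MonoidHom.map_zpowers]
            simp only [MulEquiv.coe_toMonoidHom, MulAut.conj_apply, inv_inv]
            rw [heq, hgen]
          rw [hNdef, mem_normalizer_iff]
          intro w
          constructor
          · intro hw
            rw [← hmap]; exact ⟨w, hw, rfl⟩
          · intro hw
            rw [← hmap] at hw
            obtain ⟨w', hw', e⟩ := hw
            have : w' = w := (MulAut.conj _).injective e
            exact this ▸ hw'
        simpa using N.inv_mem hinv
      rw [hq0, QuotientGroup.eq]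
      have hbM : b ∈ M := by simpa using M.mul_mem (hNM hg) m.2
      simpa using hbM
  set f := Nat.card (fixedBy (G ⧸ M) t) with hf
  have hf5 : f % 5 = 1 := fixedBy_mod_eq_one (X := G ⧸ M) hx htC.symm q0
    (hfixM t (mem_centralizer_singleton_iff.2 rfl)) (hfixM x hxM) fun a _ ha => hxuniq a ha
  have hf4 := (four_dvd_moved hG (G ⧸ M) ht2).1
  rw [← Subgroup.index_eq_card, ← hf] at hf4
  have hflt : f < M.index := fixedBy_lt hMtop ht1
  -- fixed cosets give involutions of `M`
  let φ : fixedBy (G ⧸ M) t → {z : M // z * z = 1 ∧ z ≠ 1} := fun a =>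
    ⟨⟨a.1.out * t * a.1.out⁻¹, by
        have h1 : t • (QuotientGroup.mk a.1.out : G ⧸ M) = QuotientGroup.mk a.1.out := by
          rw [QuotientGroup.out_eq']; exact a.2
        have h2 := mem_centralizer_singleton_iff.1 ((hmem _ _).1 h1)
        refine mem_centralizer_singleton_iff.2 ?_
        have h3 := (Commute.conj_iff a.1.out).2 (show Commute (a.1.out⁻¹ * t * a.1.out) t from h2)
        rw [show a.1.out * (a.1.out⁻¹ * t * a.1.out) * a.1.out⁻¹ = t by group] at h3
        exact h3.symm⟩,
      Subtype.ext (by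
        show a.1.out * t * a.1.out⁻¹ * (a.1.out * t * a.1.out⁻¹) = 1
        rw [conj_mul, ht2, mul_one, mul_inv_cancel]),
      fun h' => ht1 (conj_eq_one_iff.1 (congrArg Subtype.val h'))⟩
  have hφ : Function.Injective φ := by
    intro a b hab
    have h1 : a.1.out * t * a.1.out⁻¹ = b.1.out * t * b.1.out⁻¹ :=
      congrArg (fun z : {z : M // z * z = 1 ∧ z ≠ 1} => ((z.1 : M) : G)) hab
    apply Subtype.ext
    rw [← QuotientGroup.out_eq' a.1, ← QuotientGroup.out_eq' b.1, QuotientGroup.eq]
    refine mem_centralizer_singleton_iff.2 ?_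
    calc a.1.out⁻¹ * b.1.out * t = a.1.out⁻¹ * (b.1.out * t * b.1.out⁻¹) * b.1.out := by group
      _ = t * (a.1.out⁻¹ * b.1.out) := by rw [← h1]; group
  have hfle : f ≤ Nat.card {z : M // z * z = 1 ∧ z ≠ 1} :=
    Nat.card_le_card_of_injective φ hφ
  have hk36 : k = 1 ∨ k = 6 ∨ k = 36 := by
    have hkd : k ∣ 396 := ⟨M.index, by
      have e : M.index * (20 * k) = 20 * (k * M.index) := by ring
      omega⟩
    have hk11 : ¬ 11 ∣ k := fun hd => h11 (hk ▸ hd.mul_left 20)
    have := Nat.le_of_dvd (by norm_num) hkd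
    have key : ∀ j < 397, j ∣ 396 → j % 5 = 1 → ¬ 11 ∣ j → j = 1 ∨ j = 6 ∨ j = 36 := by decide +kernel
    exact key k (by omega) hkd hkmod hk11
  rcases hk36 with rfl | rfl | rfl
  · -- `M = N(⟨x⟩)`
    have hle : Nat.card {z : M // z * z = 1 ∧ z ≠ 1} ≤ 11 := by
      have hcc : Nat.card {z : M // (z : G) ∈ C} = 10 := by
        rw [← hC]
        exact Nat.card_congr
          { toFun := fun z => ⟨z.1.1, z.2⟩
            invFun := fun z => ⟨⟨z.1, hNM (by
              have : z.1 ∈ centralizer (zpowers x : Set G) := by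
                rw [zpowers_eq_closure, centralizer_closure]; exact z.2
              exact centralizer_le_normalizer' _ this)⟩, z.2⟩
            left_inv := fun z => rfl
            right_inv := fun z => rfl }
      let A := {z : M // (z * z = 1 ∧ z ≠ 1) ∧ (z : G) ∈ C}
      let B := {z : M // ¬ (z : G) ∈ C}
      have hA : Nat.card A ≤ 1 := Finite.card_le_one_iff_subsingleton.2 ⟨fun a b => by
        apply Subtype.ext; apply Subtype.ext
        rw [huniq2 _ a.2.2 (congrArg Subtype.val a.2.1.1) (fun e => a.2.1.2 (Subtype.ext e)),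
          huniq2 _ b.2.2 (congrArg Subtype.val b.2.1.1) (fun e => b.2.1.2 (Subtype.ext e))]⟩
      have hB : Nat.card B = 10 := by
        have h1 : Nat.card {z : M // (z : G) ∈ C} + Nat.card B = Nat.card M := by
          rw [← Nat.card_sum]; exact Nat.card_congr (Equiv.sumCompl _)
        omega
      have hAB : Nat.card {z : M // z * z = 1 ∧ z ≠ 1} ≤ Nat.card A + Nat.card B := by
        rw [← Nat.card_sum]
        refine Nat.card_le_card_of_injective
          (fun z => if hz : (z.1 : G) ∈ C then Sum.inl ⟨z.1, z.2, hz⟩ else Sum.inr ⟨z.1, hz⟩) ?_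
        intro a b hab
        dsimp only at hab
        split_ifs at hab
        all_goals first
          | exact Subtype.ext (congrArg Subtype.val (Sum.inl.inj hab) :)
          | exact Subtype.ext (congrArg Subtype.val (Sum.inr.inj hab) :)
          | exact absurd hab (by simp)
      omega
    omega
  · set t₀ : M := ⟨t, mem_centralizer_singleton_iff.2 rfl⟩ with ht₀
    have hM120 : Nat.card M = 120 := by rw [hk]
    obtain ⟨hI, hnc⟩ := no_forty_six hM120 hk5 hx' (t := t₀) (by rw [ht₀, Subgroup.orderOf_mk, ht])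
      (mem_center_iff.2 fun g => Subtype.ext (mem_centralizer_singleton_iff.1 g.2))
      (by
        have hinj : Nat.card (centralizer ({x'} : Set M)) =
            Nat.card ((centralizer ({x'} : Set M)).map M.subtype) :=
          (card_map_of_injective M.subtype_injective).symm
        rw [hinj, ← hC]
        refine card_dvd_of_le ?_
        rintro _ ⟨z, hz, rfl⟩
        exact mem_centralizer_singleton_iff.2
          (congrArg Subtype.val (mem_centralizer_singleton_iff.1 hz)))
    have hI1 : Nat.card {z : M // z * z = 1 ∧ z ≠ 1} + 1 ≤ Nat.card {z : M // z * z = 1} := by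
      rw [← Finite.card_option]
      refine Nat.card_le_card_of_injective
        (fun o => o.elim ⟨1, one_mul 1⟩ fun z => ⟨z.1, z.2.1⟩) ?_
      rintro (_ | a) (_ | b) hab <;> simp only [Option.elim, Subtype.mk.injEq] at hab
      · rfl
      · exact absurd hab.symm b.2.2
      · exact absurd hab a.2.2
      · rw [Subtype.ext hab]
    obtain ⟨⟨v, hvM⟩, hv⟩ := exists_prime_orderOf_dvd_card' 3 (G := M) (by rw [hM120]; norm_num)
    have hv' : orderOf v = 3 := by rwa [Subgroup.orderOf_mk] at hv
    have hvt : Commute v t := mem_centralizer_singleton_iff.1 hvM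
    have hf3 : f % 3 = 1 := fixedBy_mod_eq_one (X := G ⧸ M) hv' hvt q0
      (hfixM t (mem_centralizer_singleton_iff.2 rfl)) (hfixM v hvM) fun a hta hva => by
        by_contra hne
        let a' : fixedBy (G ⧸ M) t := ⟨a, hta⟩
        refine hnc ⟨v, hvM⟩ (φ a').1 hv ?_ ?_ ?_
        · exact orderOf_eq_prime (by rw [pow_two]; exact (φ a').2.1) (φ a').2.2
        · intro e
          apply hne
          have h1 : a.out * t * a.out⁻¹ = t := congrArg Subtype.val e
          rw [← QuotientGroup.out_eq' a, hq0, QuotientGroup.eq, mul_one]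
          exact M.inv_mem (mem_centralizer_singleton_iff.2 (mul_inv_eq_iff_eq_mul.1 h1))
        · apply Subtype.ext
          show a.out * t * a.out⁻¹ * v = v * (a.out * t * a.out⁻¹)
          have h1 : v • (QuotientGroup.mk a.out : G ⧸ M) = QuotientGroup.mk a.out := by
            rw [QuotientGroup.out_eq']; exact hva
          have h2 := mem_centralizer_singleton_iff.1 ((hmem _ _).1 h1)
          have h3 := (Commute.conj_iff a.out).2 (show Commute (a.out⁻¹ * v * a.out) t from h2)
          rw [show a.out * (a.out⁻¹ * v * a.out) * a.out⁻¹ = v by group] at h3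
          exact h3.symm.eq
    omega
  · omega

/-- Elements of order five are self-centralizing and conjugate to their squares. -/
theorem five (h : Nat.card G = 7920) {y x : G} (hy : orderOf y = 11) (hx : orderOf x = 5)
    (hxN : x ∈ normalizer (zpowers y : Set G)) (hxC : x ∉ centralizer ({y} : Set G)) :
    Nat.card (centralizer ({x} : Set G)) = 5 ∧ IsConj x (x ^ 2) := by
  classical
  haveI : Fact (Nat.Prime 5) := ⟨by norm_num⟩
  haveI : Fact (Nat.Prime 11) := ⟨by norm_num⟩
  have hG := not_comm h
  obtain ⟨hC11, hN55, hn11⟩ := eleven h hy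
  have hS : ∀ P : Sylow 5 G, Nat.card (P : Subgroup G) = 5 :=
    sylow_prime_card (m := 1584) (by rw [h]) (by norm_num)
  obtain ⟨P, hP, -⟩ := existsUnique_sylow_of_orderOf default (hS _) hx
  have hPc := hS P
  have hn := card_sylow_mem hG (p := 5) (k := 1) (m := 1584) (by rw [h]; norm_num) (by norm_num)
    (by norm_num)
  rw [show (Nat.divisors 1584).filter (fun d => d % 5 = 1 ∧ d ≠ 1) =
    {6, 11, 16, 36, 66, 176, 396} by decide +kernel] at hn
  simp only [Finset.mem_insert, Finset.mem_singleton] at hn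
  obtain ⟨e, he, he1, hc5, hNC⟩ := exists_card_normalizer_eq_of_simple hG P hPc
  have hmul := card_normalizer_sylow_mul P
  rw [h] at hmul
  have hxP : x ∈ (P : Subgroup G) := hP ▸ mem_zpowers x
  have hCx : centralizer ({x} : Set G) = centralizer ((P : Subgroup G) : Set G) :=
    centralizer_eq_of_prime hPc hxP (fun h1 => by rw [h1, orderOf_one] at hx; norm_num at hx)
  have he4 : e = 2 ∨ e = 4 := by
    have := Nat.le_of_dvd (by norm_num) he
    interval_cases e <;> simp_all
  rw [← hCx] at hc5 hNC
  obtain ⟨c, hc⟩ := hc5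
  rw [hc] at hNC
  rcases hn with hn | hn | hn | hn | hn | hn | hn
  · exfalso
    have := two_mul_card_dvd_factorial_card_sylow hG (p := 5) (by rw [h]; norm_num)
    rw [hn, h] at this
    norm_num [Nat.factorial] at this
  · exfalso
    have hd := card_centralizer_dvd_of_card_sylow hG P hPc (k := 2) (by rw [hn])
    rw [← hCx, hc] at hd
    rw [hn, hNC] at hmul
    have := Nat.le_of_dvd (by norm_num [Nat.factorial]) hd
    norm_num [Nat.factorial] at this
    rcases he4 with rfl | rfl <;> omega
  · exfalso; rw [hn, hNC] at hmul; rcases he4 with rfl | rfl <;> omega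
  · exfalso
    rw [hn, hNC] at hmul
    have h11 : 11 ∣ Nat.card (centralizer ({x} : Set G)) := by
      rw [hc]; rcases he4 with rfl | rfl <;> omega
    obtain ⟨⟨z, hzC⟩, hz⟩ := exists_prime_orderOf_dvd_card' 11
      (G := centralizer ({x} : Set G)) h11
    rw [Subgroup.orderOf_mk] at hz
    have h1 : x ∈ centralizer ({z} : Set G) :=
      mem_centralizer_singleton_iff.2 (mem_centralizer_singleton_iff.1 hzC).symm
    have := Subgroup.orderOf_dvd_natCard _ h1
    rw [hx, (eleven h hz).1] at this
    norm_num at this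
  · exfalso
    rw [hn] at hmul
    have hNx : Nat.card (normalizer (zpowers x : Set G)) = 120 := by rw [← hP]; omega
    obtain ⟨Q, hQ, -⟩ := existsUnique_sylow_of_orderOf (default : Sylow 11 G)
      (sylow_prime_card (m := 720) (by rw [h]) (by norm_num) _) hy
    have hQc : Nat.card (Q : Subgroup G) = 11 := by rw [hQ, Nat.card_zpowers, hy]
    set F := normalizer ((Q : Subgroup G) : Set G) with hF
    have hF55 : Nat.card F = 55 := by rw [hF, hQ]; exact hN55
    have hidx : Nat.card (G ⧸ F) = 144 := by
      rw [← hn11, Q.card_eq_index_normalizer]; rfl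
    set q0 : G ⧸ F := QuotientGroup.mk 1 with hq0
    have hxF : x ∈ F := by rw [hF, hQ]; exact hxN
    have hxfix : x • q0 = q0 := by
      change QuotientGroup.mk (x * 1) = QuotientGroup.mk 1
      rw [QuotientGroup.eq, mul_one, mul_one]; exact F.inv_mem hxF
    have horb : 24 ≤ Nat.card (fixedBy (G ⧸ F) x) := by
      set Nx := normalizer (zpowers x : Set G) with hNxdef
      have hsub : ∀ a ∈ orbit Nx q0, a ∈ fixedBy (G ⧸ F) x := by
        rintro _ ⟨⟨g, hg⟩, rfl⟩
        obtain ⟨i, hi⟩ := mem_zpowers_iff.1 ((mem_normalizer_iff''.1 hg x).1 (mem_zpowers x))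
        change x • g • q0 = g • q0
        have hfix : (g⁻¹ * x * g) • q0 = q0 := by
          rw [← hi]
          exact zpow_mem (show x ∈ stabilizer G q0 from hxfix) i
        rw [mul_smul, mul_smul, inv_smul_eq_iff] at hfix
        exact hfix
      have hst : Nat.card (stabilizer Nx q0) ∣ 5 := by
        have h1 : Nat.card (stabilizer Nx q0) ∣ 120 := hNx ▸ card_subgroup_dvd_card _
        have h2 : Nat.card (stabilizer Nx q0) ∣ 55 := by
          rw [← hF55]
          refine card_dvd_of_injective
            ((Nx.subtype.comp (stabilizer Nx q0).subtype).codRestrict F fun g => ?_) ?_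
          · have := g.2
            change QuotientGroup.mk (((g : Nx) : G) * 1) = (QuotientGroup.mk 1 : G ⧸ F) at this
            rw [QuotientGroup.eq, mul_one, mul_one] at this
            exact F.inv_mem_iff.1 this
          · intro a b hab
            exact Subtype.ext (Subtype.ext (congrArg (Subtype.val : F → G) hab :))
        exact (Nat.dvd_gcd h1 h2).trans (by norm_num)
      have h5 := Nat.le_of_dvd (by norm_num) hst
      have hprod := (stabilizer Nx q0).card_mul_index
      rw [index_stabilizer, hNx] at hprod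
      have hle : (orbit Nx q0).ncard ≤ Nat.card (fixedBy (G ⧸ F) x) := by
        rw [← Nat.card_coe_set_eq]
        exact Nat.card_le_card_of_injective (fun a => ⟨a.1, hsub a.1 a.2⟩)
          fun a b hab => Subtype.ext (congrArg Subtype.val hab :)
      nlinarith
    have hle := card_fixedBy_le_orbits (X := G ⧸ F) hQc (x := x) hxF (by
      intro hx'; apply hxC
      rw [centralizer_eq_of_prime hQc (hQ ▸ mem_zpowers y)
        (fun h1 => by rw [h1, orderOf_one] at hy; norm_num at hy)]
      exact hx')
    haveI := Fintype.ofFinite (G ⧸ F)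
    haveI := Fintype.ofFinite (Q : Subgroup G)
    haveI := Fintype.ofFinite (Quotient (orbitRel (Q : Subgroup G) (G ⧸ F)))
    have hsum := sum_card_fixedBy_eq_card_orbits_mul_card_group (Q : Subgroup G) (G ⧸ F)
    have hL : (∑ g : (Q : Subgroup G), Fintype.card (fixedBy (G ⧸ F) g)) = 144 + 10 := by
      have h1 : (1 : (Q : Subgroup G)) ∈ (Finset.univ : Finset (Q : Subgroup G)) := Finset.mem_univ _
      rw [← Finset.add_sum_erase _ _ h1, Finset.sum_congr rfl (g := fun _ => 1) fun g hg => by
        rw [← Nat.card_eq_fintype_card]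
        exact card_fixedBy_of_orderOf Q hQc
          (orderOf_eq_of_prime hQc g.2 fun h1 => Finset.ne_of_mem_erase hg (Subtype.ext h1)),
        Finset.sum_const, Finset.card_erase_of_mem h1, Finset.card_univ, ← Nat.card_eq_fintype_card,
        ← Nat.card_eq_fintype_card, hQc, smul_eq_mul, mul_one]
      congr 1
      rw [← hidx]
      exact Nat.card_congr ((Equiv.subtypeEquivRight fun a =>
        ⟨fun _ => trivial, fun _ => one_smul (Q : Subgroup G) a⟩).trans (Equiv.Set.univ (G ⧸ F)))
    rw [hL] at hsum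
    simp only [← Nat.card_eq_fintype_card, hQc] at hsum
    replace hle : Nat.card (fixedBy (G ⧸ F) x) ≤
        Nat.card (Quotient (orbitRel (Q : Subgroup G) (G ⧸ F))) := hle
    omega
  · exfalso; rw [hn, hNC] at hmul; rcases he4 with rfl | rfl <;> omega
  · rw [hn, hNC] at hmul
    rcases he4 with rfl | rfl
    · exfalso
      refine centralizer_five_ne_ten h hx ?_ (by omega)
      rw [← hP, hNC]; omega
    · refine ⟨by omega, ?_⟩
      set N := normalizer (zpowers x : Set G) with hNdef
      have hNcard : Nat.card N = 20 := by rw [hNdef, ← hP, hNC]; omega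
      haveI := Fintype.ofFinite N
      let S : Finset G := Finset.univ.image fun g : N => (g : G) * x * (g : G)⁻¹
      have hS4 : 4 ≤ S.card := by
        have h1 := Finset.card_le_mul_card_image (s := (Finset.univ : Finset N))
          (f := fun g : N => (g : G) * x * (g : G)⁻¹) 5 (fun b hb => by
            obtain ⟨g₀, -, rfl⟩ := Finset.mem_image.1 hb
            rw [← Nat.card_eq_finsetCard, ← show Nat.card (centralizer ({x} : Set G)) = 5 by omega]
            refine Nat.card_le_card_of_injective (fun g => ⟨(g₀ : G)⁻¹ * (g.1 : G), ?_⟩) ?_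
            · rw [mem_centralizer_singleton_iff]
              have := (Finset.mem_filter.1 g.2).2
              calc (g₀ : G)⁻¹ * (g.1 : G) * x = (g₀ : G)⁻¹ * ((g.1 : G) * x * (g.1 : G)⁻¹) * g.1 := by
                    group
                _ = x * ((g₀ : G)⁻¹ * (g.1 : G)) := by rw [this]; group
            · intro a b hab
              exact Subtype.ext (Subtype.ext (mul_left_cancel (congrArg Subtype.val hab))))
        rw [Finset.card_univ, ← Nat.card_eq_fintype_card, hNcard] at h1
        change 4 ≤ (Finset.image _ _).card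
        omega
      let T : Finset G := {x, x ^ 2, x ^ 3, x ^ 4}
      have hST : S ⊆ T := by
        intro b hb
        obtain ⟨g, -, rfl⟩ := Finset.mem_image.1 hb
        obtain ⟨i, hi⟩ := mem_powers_iff_mem_zpowers.2 ((mem_normalizer_iff.1 g.2 x).1 (mem_zpowers x))
        simp only at hi
        rw [← hi, ← pow_mod_orderOf, hx]
        have hne : i % 5 ≠ 0 := by
          intro h0
          rw [← pow_mod_orderOf, hx, h0, pow_zero, eq_comm, conj_eq_one_iff] at hi
          rw [hi, orderOf_one] at hx
          norm_num at hx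
        have : i % 5 < 5 := Nat.mod_lt _ (by norm_num)
        interval_cases i % 5 <;> simp [T] at hne ⊢
      have heq := Finset.eq_of_subset_of_card_le hST ((Finset.card_le_four).trans hS4)
      have h2 : x ^ 2 ∈ S := heq ▸ (by simp [T])
      obtain ⟨g, -, hg⟩ := Finset.mem_image.1 h2
      exact isConj_iff.2 ⟨g, hg⟩

end Cfsg.Agent.Lib.M11Degrees
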